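import Groth.Agent.An.H809.PushLC
import Groth.Agent.An.H526.T3Scheme
import Groth.Agent.An.H871.Imm
import Groth.Agent.An.H866.EtLH
import Groth.Agent.An.H879.FiniteClosed
import Groth.Agent.An.H863.PtsSep
import Groth.Agent.Ega1.ReducedSub

/-!
# Direct images of finite constant sheaves along finite morphisms belong to `Acal`
-/

set_option autoImplicit false

open CategoryTheory AlgebraicGeometry TopologicalSpace Topology Opposite

noncomputable section

namespace Groth.Agent.An.H809.AcalPush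

open Groth.Agent.An.H809.PushLC Groth.Agent.An.H866.T2Defs Groth.Agent.An.H890.ULiftSite

/-- The integral closed subscheme on an irreducible closed subset. -/
theorem exists_integral {T : Scheme.{0}} (Z : Set T) (hZ : IsClosed Z) (hirr : IsIrreducible Z) :
    ∃ (Y : Scheme.{0}) (i : Y ⟶ T), IsClosedImmersion i ∧ IsIntegral Y ∧ Set.range i = Z := by
  let I := Scheme.IdealSheafData.vanishingIdeal (X := T) ⟨Z, hZ⟩
  have hr : Set.range I.subschemeι = Z := by
    rw [Scheme.IdealSheafData.range_subschemeι, Scheme.IdealSheafData.coe_support_vanishingIdeal]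
    rfl
  have h1 : IsReduced I.subscheme := Ega1.ReducedSub.isReduced_subscheme_vanishingIdeal _
  have h2 : IrreducibleSpace I.subscheme := by
    have h3 : IsIrreducible (Set.range I.subschemeι) := by rw [hr]; exact hirr
    have h4 : IrreducibleSpace (Set.range I.subschemeι) := isIrreducible_iff_irreducibleSpace.1 h3
    exact I.subschemeι.isClosedEmbedding.isEmbedding.toHomeomorph.irreducibleSpace_iff.mpr h4
  exact ⟨I.subscheme, I.subschemeι, inferInstance, isIntegral_of_irreducibleSpace_of_isReduced _, hr⟩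

/-- The reduced closed subscheme on a closed subset. -/
theorem exists_reduced {T : Scheme.{0}} (Z : Set T) (hZ : IsClosed Z) :
    ∃ (Y : Scheme.{0}) (i : Y ⟶ T), IsClosedImmersion i ∧ IsReduced Y ∧ Set.range i = Z := by
  let I := Scheme.IdealSheafData.vanishingIdeal (X := T) ⟨Z, hZ⟩
  have hr : Set.range I.subschemeι = Z := by
    rw [Scheme.IdealSheafData.range_subschemeι, Scheme.IdealSheafData.coe_support_vanishingIdeal]
    rfl
  exact ⟨I.subscheme, I.subschemeι, inferInstance,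
    Ega1.ReducedSub.isReduced_subscheme_vanishingIdeal _, hr⟩

/-- The square of closed immersions over an irreducible closed subset. -/
theorem exists_square {S S' : Scheme.{0}} (ρ : S' ⟶ S) [IsFinite ρ] (Z : Set S) (hZ : IsClosed Z)
    (hirr : IsIrreducible Z) : ∃ (Y W : Scheme.{0}) (i : Y ⟶ S) (j : W ⟶ S') (g : W ⟶ Y),
      IsClosedImmersion i ∧ IsClosedImmersion j ∧ IsFinite g ∧ IsIntegral Y ∧ IsReduced W ∧
      g ≫ i = j ≫ ρ ∧ Set.range i = Z ∧ Set.range j = ρ ⁻¹' Z := by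
  obtain ⟨Y, i, hi, hY, hri⟩ := exists_integral Z hZ hirr
  obtain ⟨W, j, hj, hW, hrj⟩ := exists_reduced (ρ ⁻¹' Z) (hZ.preimage ρ.continuous)
  obtain ⟨g, hg⟩ := Ega1.ReducedSub.exists_factor_of_range_subset (j ≫ ρ) i (by
    rintro _ ⟨w, rfl⟩
    have : j w ∈ ρ ⁻¹' Z := hrj ▸ ⟨w, rfl⟩
    rw [hri, Scheme.Hom.comp_apply]
    exact this)
  have hfin : IsFinite (g ≫ i) := by rw [hg]; infer_instance
  have hg' : IsFinite g := IsFinite.of_comp g i
  exact ⟨Y, W, i, j, g, hi, hj, hg', hY, hW, hg, hri, hrj⟩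

variable {S S' : Scheme.{0}} [S.Over An.SC] [S'.Over An.SC] [LocallyOfFiniteType (S ↘ An.SC)]

/-- Local homeomorphism over an open: the points over `V` have small neighbourhoods mapped
homeomorphically onto open sets. -/
theorem exists_nhd {W Y : Scheme.{0}} [W.Over An.SC] [Y.Over An.SC]
    [LocallyOfFiniteType (Y ↘ An.SC)] (g : W ⟶ Y) [g.IsOver An.SC] (V : Y.Opens)
    (hV : Etale (g ∣_ V)) (w : An.Pts W) (hw : (An.Pts.map g w).pt ∈ V) (N : Set (An.Pts W))
    (hN : IsOpen N) (hwN : w ∈ N) :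
    ∃ O : Set (An.Pts W), IsOpen O ∧ O ⊆ N ∧ w ∈ O ∧ Set.InjOn (An.Pts.map g) O ∧
      IsOpen (An.Pts.map g '' O) := by
  have i1 : (g ∣_ V).IsOver An.SC := H871.Imm.isOver_morphismRestrict g V
  have i2 : LocallyOfFiniteType (V.toScheme ↘ An.SC) := H871.Imm.locallyOfFiniteType_opens V
  have hlh := H866.EtLH.isLocalHomeomorph_map (g ∣_ V)
  have ho := H871.Imm.isOpenEmbedding_map (g ⁻¹ᵁ V).ι
  have ho' := H871.Imm.isOpenEmbedding_map V.ι
  -- lift of `w`
  obtain ⟨w', rfl⟩ : w ∈ Set.range (An.Pts.map (g ⁻¹ᵁ V).ι) := by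
    rw [H871.Imm.range_map_of_isOpenImmersion]
    rw [An.Pts.pt_map] at hw
    change w.pt ∈ Set.range (g ⁻¹ᵁ V).ι
    rw [Scheme.Opens.range_ι]
    exact hw
  obtain ⟨e, hwe, he⟩ := hlh w'
  have hcomp : ∀ x, An.Pts.map g (An.Pts.map (g ⁻¹ᵁ V).ι x) =
      An.Pts.map V.ι (An.Pts.map (g ∣_ V) x) := by
    intro x
    refine Subtype.ext ?_
    simp only [An.Pts.map_val, Category.assoc, morphismRestrict_ι]
  have hO : IsOpen (e.source ∩ An.Pts.map (g ⁻¹ᵁ V).ι ⁻¹' N) :=
    e.open_source.inter (hN.preimage (An.Pts.continuous_map _))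
  refine ⟨An.Pts.map (g ⁻¹ᵁ V).ι '' (e.source ∩ An.Pts.map (g ⁻¹ᵁ V).ι ⁻¹' N),
    ho.isOpenMap _ hO, ?_, ⟨w', ⟨hwe, hwN⟩, rfl⟩, ?_, ?_⟩
  · rintro _ ⟨x, hx, rfl⟩
    exact hx.2
  · rintro _ ⟨x, hx, rfl⟩ _ ⟨x', hx', rfl⟩ hxx
    rw [hcomp, hcomp] at hxx
    have h1 := ho'.injective hxx
    rw [he] at h1
    rw [e.injOn hx.1 hx'.1 h1]
  · rw [Set.image_image]
    simp only [hcomp]
    rw [← Set.image_image (An.Pts.map V.ι) (An.Pts.map (g ∣_ V))]
    exact ho'.isOpenMap _ (hlh.isOpenMap _ hO)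

theorem acal_pushCl (ρ : S' ⟶ S) [ρ.IsOver An.SC] [IsFinite ρ] (M : Type) [AddCommGroup M]
    [Finite M] : Acal S ((pushCl (An.Pts.mapC ρ)).obj (An.Cl.const (An.Pts S') M)) := by
  intro Z hZ hirr
  obtain ⟨Y, W, i, j, g, hi, hj, hg, hY, hW, hsq, hri, hrj⟩ := exists_square ρ Z hZ hirr
  let _ : Y.Over An.SC := ⟨i ≫ (S ↘ An.SC)⟩
  let _ : W.Over An.SC := ⟨j ≫ (S' ↘ An.SC)⟩
  have io : i.IsOver An.SC := ⟨rfl⟩
  have jo : j.IsOver An.SC := ⟨rfl⟩
  have go : g.IsOver An.SC := ⟨by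
    change g ≫ i ≫ (S ↘ An.SC) = j ≫ (S' ↘ An.SC)
    rw [reassoc_of% hsq, comp_over ρ An.SC]⟩
  have hYft : LocallyOfFiniteType (Y ↘ An.SC) := by
    change LocallyOfFiniteType (i ≫ (S ↘ An.SC))
    infer_instance
  obtain ⟨Z0, -, hne, het⟩ := H526.T3.exists_open_etale (k := ℂ) (Y ↘ An.SC) g
  obtain ⟨U, hU, hUZ⟩ := i.isClosedEmbedding.isInducing.isOpen_iff.1 Z0.2
  refine ⟨⟨U, hU⟩, ?_, ?_⟩
  · obtain ⟨y, hy⟩ := hne
    refine ⟨i y, hri ▸ ⟨y, rfl⟩, ?_⟩
    change y ∈ i ⁻¹' U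
    rw [hUZ]
    exact hy
  · intro z hzU hzZ
    have hpr := H879.FiniteClosed.isClosedMap_map_of_isFinite ρ
    have hsep := H863.PtsSep.isSeparatedMap_of_isSeparated ρ
    have hfin := H879.FiniteClosed.finite_fibre_of_isFinite ρ
    have hie := H871.Imm.isClosedEmbedding_map i
    have hje := H871.Imm.isClosedEmbedding_map j
    have hcomp : ∀ x, An.Pts.map ρ (An.Pts.map j x) = An.Pts.map i (An.Pts.map g x) := by
      intro x
      refine Subtype.ext ?_
      simp only [An.Pts.map_val, Category.assoc, hsq]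
    have hlift : ∀ y : An.Pts S', (An.Pts.map ρ y).pt ∈ Z → ∃ w, An.Pts.map j w = y := by
      intro y hy
      have : y ∈ Set.range (An.Pts.map j) := by
        rw [H871.Imm.range_map_of_isClosedImmersion]
        change y.pt ∈ Set.range j
        rw [hrj]
        rw [An.Pts.pt_map] at hy
        exact hy
      exact this
    have hlift' : ∀ t : An.Pts S, t.pt ∈ Z → ∃ t', An.Pts.map i t' = t := by
      intro t ht
      have : t ∈ Set.range (An.Pts.map i) := by
        rw [H871.Imm.range_map_of_isClosedImmersion]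
        change t.pt ∈ Set.range i
        rw [hri]
        exact ht
      exact this
    refine lcat_push (f := An.Pts.mapC ρ) hpr hsep hfin ?_
    intro y hy N hN hyN
    have hy' : An.Pts.map ρ y = z := hy
    obtain ⟨w, rfl⟩ := hlift y (by rw [hy']; exact hzZ)
    have hgw : (An.Pts.map g w).pt ∈ Z0 := by
      have : i (An.Pts.map g w).pt = z.pt := by
        rw [← An.Pts.pt_map, ← hcomp, hy']
      change (An.Pts.map g w).pt ∈ Z0.carrier
      rw [← hUZ]
      change i _ ∈ U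
      rw [this]
      exact hzU
    obtain ⟨O, hO, hON, hwO, hinj, himg⟩ := exists_nhd g Z0 (het Z0 le_rfl) w hgw
      (An.Pts.map j ⁻¹' N) (hN.preimage (An.Pts.continuous_map j)) hyN
    obtain ⟨N', hN', hN'O⟩ := hje.isInducing.isOpen_iff.1 hO
    obtain ⟨V, hV, hVO⟩ := hie.isInducing.isOpen_iff.1 himg
    refine ⟨N' ∩ N, hN'.inter hN, Set.inter_subset_right, ⟨?_, hyN⟩, V, hV, ?_, ?_⟩
    · change w ∈ An.Pts.map j ⁻¹' N'
      rw [hN'O]
      exact hwO
    · rw [← hy', hcomp]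
      change An.Pts.map g w ∈ An.Pts.map i ⁻¹' V
      rw [hVO]
      exact ⟨w, hwO, rfl⟩
    · intro t htV htZ
      obtain ⟨t', rfl⟩ := hlift' t htZ
      have ht' : t' ∈ An.Pts.map i ⁻¹' V := htV
      rw [hVO] at ht'
      obtain ⟨o, hoO, rfl⟩ := ht'
      refine ⟨An.Pts.map j o, ⟨⟨?_, hON hoO⟩, hcomp o⟩, ?_⟩
      · change o ∈ An.Pts.map j ⁻¹' N'
        rw [hN'O]
        exact hoO
      · rintro y'' ⟨⟨hy1, hy2⟩, hy3⟩
        have hy3' : An.Pts.map ρ y'' = An.Pts.map i (An.Pts.map g o) := hy3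
        obtain ⟨o', rfl⟩ := hlift y'' (by rw [hy3']; exact htZ)
        have ho' : o' ∈ An.Pts.map j ⁻¹' N' := hy1
        rw [hN'O] at ho'
        rw [hcomp] at hy3'
        rw [hinj ho' hoO (hie.injective hy3')]

end Groth.Agent.An.H809.AcalPush
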