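import Groth.Agent.An.H866.T2Defs
import Mathlib.Topology.Covering.Basic
import Mathlib.Topology.LocallyConstant.Basic
import Mathlib.Algebra.Group.Shrink

/-!
# The covering of characters of a sheaf which is locally constant along a subspace

`G` a sheaf on the classical site of `T`, `i : Y → T` continuous with `Y` preconnected, `G` locally
constant with finite stalks along the image of `i`.  There are a finite group `M`, a finite covering
`p : E → Y` and an additive, natural, locally constant pairing of the sections of `G` with the points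
of `E`, which detects the vanishing of germs at the points of `Y`.
-/

set_option autoImplicit false

open CategoryTheory TopologicalSpace Topology Opposite

noncomputable section

namespace Groth.Agent.An.H809.CharCov

open _root_.An Groth.Agent.An.H886.EtSpace
open Groth.Agent.An.H889.OCoh Groth.Agent.An.H866.T2Defs

variable {T : Type} [TopologicalSpace T] {G : Cl.Ab T}

/-! ### Germs -/

theorem GEq.add {B B' : Cl T} {b : B.E} {b' : B'.E} {s r : Cl.sect G B} {s' r' : Cl.sect G B'}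
    (h : GEq G b b' s s') (k : GEq G b b' r r') : GEq G b b' (s + r) (s' + r') := by
  obtain ⟨C, f, f', c, h1, h2, h3⟩ := h
  obtain ⟨D, g, g', d, k1, k2, k3⟩ := k
  obtain ⟨F, u, v, x, hx, hy, huv, -⟩ := exists_cospan f g c d (h1.trans k1.symm)
  obtain ⟨L, w, l, hl, hw, -⟩ := exists_eq (u ≫ f') (v ≫ g') x (by
    rw [Cl.comp_toFun, Cl.comp_toFun, Function.comp_apply, Function.comp_apply, hx, hy, h2, k2])
  refine ⟨L, w ≫ u ≫ f, w ≫ u ≫ f', l, ?_, ?_, ?_⟩
  · rw [Cl.comp_toFun, Cl.comp_toFun, Function.comp_apply, Function.comp_apply, hl, hx, h1]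
  · rw [Cl.comp_toFun, Cl.comp_toFun, Function.comp_apply, Function.comp_apply, hl, hx, h2]
  · rw [map_add, map_add]
    congr 1
    · rw [res_comp, res_comp, res_comp _ _ w, res_comp _ f' u, h3]
    · have e1 : w ≫ u ≫ f = w ≫ v ≫ g := by rw [huv]
      rw [e1, hw, res_comp, res_comp, res_comp _ _ w, res_comp _ g' v, k3]

/-- Every section is, near a point, a section over an open subset of `T`. -/
theorem exists_down {A : Cl T} (a : A.E) (s : Cl.sect G A) :
    ∃ (V : Opens T) (s' : Cl.sect G ((opensToCl T).obj V)) (W : Set A.E), IsOpen W ∧ a ∈ W ∧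
      ∀ x ∈ W, ∃ h : A.p x ∈ V, GEq G x (⟨A.p x, h⟩ : ((opensToCl T).obj V).E) s s' := by
  obtain ⟨W, hW, haW, hemb⟩ := exists_restrict (toSelf A) a
  let e := hemb.isEmbedding.toHomeomorph
  let V : Opens T := ⟨Set.range (Cl.restrictOpenι A W hW ≫ toSelf A).toFun, hemb.isOpen_range⟩
  have he : ∀ v : V, A.p (e.symm v).1 = v.1 := by
    intro v
    exact congrArg Subtype.val (e.apply_symm_apply v)
  let σ : (opensToCl T).obj V ⟶ Cl.restrictOpen A W hW := ⟨fun v => e.symm v, e.symm.continuous, he⟩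
  refine ⟨V, res G (σ ≫ Cl.restrictOpenι A W hW) s, W, hW, haW, fun x hx => ?_⟩
  have hV : A.p x ∈ V := ⟨⟨x, hx⟩, rfl⟩
  refine ⟨hV, ?_⟩
  have h1 : (σ ≫ Cl.restrictOpenι A W hW).toFun ⟨A.p x, hV⟩ = x := by
    have : e.symm ⟨A.p x, hV⟩ = ⟨x, hx⟩ := by
      rw [Homeomorph.symm_apply_eq]
      rfl
    change (e.symm ⟨A.p x, hV⟩).1 = x
    rw [this]
  have h2 := GEq.of_res (G := G) (σ ≫ Cl.restrictOpenι A W hW) ⟨A.p x, hV⟩ s
  rw [h1] at h2
  exact h2

/-- Local constancy along a subset passes to smaller subsets. -/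
theorem LCat.mono {Z Z' : Set T} (hZ : Z' ⊆ Z) {z : T} (h : LCat G Z z) : LCat G Z' z := by
  obtain ⟨V, hz, S, hS, hg⟩ := h
  exact ⟨V, hz, S, hS, fun t ht htZ => hg t ht (hZ htZ)⟩

/-! ### Charts -/

/-- A finite group of sections generating all the stalks at the points of `Z`. -/
structure Chart (G : Cl.Ab T) (Z : Set T) where
  V : Opens T
  N : Type
  [grp : AddCommGroup N]
  [fin : Finite N]
  φ : N →+ Cl.sect G ((opensToCl T).obj V)
  ex : ∀ {B : Cl T} (b : B.E) (s : Cl.sect G B) (hV : B.p b ∈ V), B.p b ∈ Z →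
    ∃! n : N, GEq G b (⟨B.p b, hV⟩ : ((opensToCl T).obj V).E) s (φ n)

attribute [instance] Chart.grp Chart.fin

theorem exists_chart {Z : Set T} {z : T} (h : LCat G Z z) : ∃ Q : Chart G Z, z ∈ Q.V := by
  obtain ⟨V, hzV, S, hS, hgen⟩ := h
  have : Finite S := hS
  let e : Shrink.{0} S ≃+ S := Shrink.addEquiv
  refine ⟨{ V := V
            N := Shrink.{0} S
            fin := Finite.of_equiv _ e.symm.toEquiv
            φ := S.subtype.comp e.toAddMonoidHom
            ex := ?_ }, hzV⟩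
  intro B b s hV hZ
  obtain ⟨h1, h2⟩ := hgen (B.p b) hV hZ
  -- existence
  obtain ⟨V₀, s', W, hW, hbW, hs'⟩ := exists_down b s
  obtain ⟨hb, hg⟩ := hs' b hbW
  obtain ⟨σ, hσ, V'', k, k', ht, e1⟩ := h2 V₀ hb s'
  have hgeq : GEq G (⟨B.p b, hb⟩ : ((opensToCl T).obj V₀).E)
      (⟨B.p b, hV⟩ : ((opensToCl T).obj V).E) s' σ :=
    ⟨(opensToCl T).obj V'', (opensToCl T).map (homOfLE k'), (opensToCl T).map (homOfLE k),
      ⟨B.p b, ht⟩, rfl, rfl, e1.symm⟩
  refine ⟨e.symm ⟨σ, hσ⟩, ?_, ?_⟩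
  · change GEq G b _ s ((e (e.symm ⟨σ, hσ⟩)).1)
    rw [AddEquiv.apply_symm_apply]
    exact hg.trans hgeq
  · intro n hn
    have hn' : GEq G b (⟨B.p b, hV⟩ : ((opensToCl T).obj V).E) s (e n).1 := hn
    have h3 : GEq G (⟨B.p b, hV⟩ : ((opensToCl T).obj V).E)
        (⟨B.p b, hV⟩ : ((opensToCl T).obj V).E) (e n).1 σ := hn'.symm.trans (hg.trans hgeq)
    -- restrict to an open subset of `T`
    obtain ⟨C, f, c, hc, e2⟩ := h3.exists_res
    have hop : IsOpen (C.p '' Set.univ) := C.lh.isOpenMap _ isOpen_univ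
    obtain ⟨W', hW', hcW', hemb⟩ := exists_restrict (toSelf C) c
    let e' := hemb.isEmbedding.toHomeomorph
    let V' : Opens T := ⟨Set.range (Cl.restrictOpenι C W' hW' ≫ toSelf C).toFun, hemb.isOpen_range⟩
    have hp : ∀ x : C.E, C.p x = (f.toFun x).1 := fun x => (f.over x).symm
    have hle : V' ≤ V := by
      rintro _ ⟨x, rfl⟩
      change C.p x.1 ∈ V
      rw [hp]
      exact (f.toFun x.1).2
    have he' : ∀ v : V', C.p (e'.symm v).1 = v.1 := by
      intro v
      exact congrArg Subtype.val (e'.apply_symm_apply v)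
    let σ' : (opensToCl T).obj V' ⟶ Cl.restrictOpen C W' hW' :=
      ⟨fun v => e'.symm v, e'.symm.continuous, he'⟩
    have hcomp : σ' ≫ Cl.restrictOpenι C W' hW' ≫ f = (opensToCl T).map (homOfLE hle) := by
      apply Cl.hom_ext
      funext v
      apply Subtype.ext
      change (f.toFun (e'.symm v).1).1 = v.1
      rw [← hp, he']
    have hmem : B.p b ∈ V' := by
      refine ⟨⟨c, hcW'⟩, ?_⟩
      change C.p c = B.p b
      rw [hp, hc]
    have h40 : res G ((opensToCl T).map (homOfLE hle)) ((e n).1 : Cl.sect G _) =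
        res G ((opensToCl T).map (homOfLE hle)) (σ : Cl.sect G _) := by
      rw [← hcomp, ← Category.assoc, res_comp _ f, res_comp _ f]
      exact congrArg _ e2
    have h4 : (clPab G).res hle ((e n).1 - σ) = 0 := by
      rw [map_sub]
      exact sub_eq_zero.2 h40
    have h5 := h1 ((e n).1 - σ) (S.sub_mem (e n).2 hσ) V' hle hmem h4
    have h6 : e n = ⟨σ, hσ⟩ := Subtype.ext (sub_eq_zero.1 h5)
    rw [← h6, AddEquiv.symm_apply_apply]

namespace Chart

variable {Z : Set T} (Q : Chart G Z)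

/-- The element of the chart with the given germ. -/
def cls {B : Cl T} (b : B.E) (s : Cl.sect G B) (hV : B.p b ∈ Q.V) (hZ : B.p b ∈ Z) : Q.N :=
  (Q.ex b s hV hZ).choose

theorem cls_spec {B : Cl T} (b : B.E) (s : Cl.sect G B) (hV : B.p b ∈ Q.V) (hZ : B.p b ∈ Z) :
    GEq G b (⟨B.p b, hV⟩ : ((opensToCl T).obj Q.V).E) s (Q.φ (Q.cls b s hV hZ)) :=
  (Q.ex b s hV hZ).choose_spec.1

theorem cls_eq {B : Cl T} (b : B.E) (s : Cl.sect G B) (hV : B.p b ∈ Q.V) (hZ : B.p b ∈ Z) {n : Q.N}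
    (h : GEq G b (⟨B.p b, hV⟩ : ((opensToCl T).obj Q.V).E) s (Q.φ n)) : Q.cls b s hV hZ = n :=
  (Q.ex b s hV hZ).unique (Q.cls_spec b s hV hZ) h

theorem cls_congr {B B' : Cl T} {b : B.E} {b' : B'.E} {s : Cl.sect G B} {s' : Cl.sect G B'}
    (h : GEq G b b' s s') (hV : B.p b ∈ Q.V) (hZ : B.p b ∈ Z) (hV' : B'.p b' ∈ Q.V)
    (hZ' : B'.p b' ∈ Z) : Q.cls b s hV hZ = Q.cls b' s' hV' hZ' := by
  refine Q.cls_eq b s hV hZ ?_
  have h1 := h.trans (Q.cls_spec b' s' hV' hZ')
  have h2 : (⟨B'.p b', hV'⟩ : ((opensToCl T).obj Q.V).E) = ⟨B.p b, hV⟩ := Subtype.ext h.p_eq.symm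
  rw [h2] at h1
  exact h1

theorem cls_add {B : Cl T} (b : B.E) (s r : Cl.sect G B) (hV : B.p b ∈ Q.V) (hZ : B.p b ∈ Z) :
    Q.cls b (s + r) hV hZ = Q.cls b s hV hZ + Q.cls b r hV hZ := by
  refine Q.cls_eq b _ hV hZ ?_
  rw [map_add]
  exact GEq.add (Q.cls_spec b s hV hZ) (Q.cls_spec b r hV hZ)

theorem cls_φ (t : T) (hV : t ∈ Q.V) (hZ : t ∈ Z) (n : Q.N) :
    Q.cls (B := (opensToCl T).obj Q.V) ⟨t, hV⟩ (Q.φ n) hV hZ = n :=
  Q.cls_eq _ _ _ _ (GEq.refl _ _)

/-- Comparison of two charts at a point. -/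
def tr (Q' : Chart G Z) (t : T) (hV : t ∈ Q.V) (hV' : t ∈ Q'.V) (hZ : t ∈ Z) : Q.N →+ Q'.N :=
  AddMonoidHom.mk' (fun n => Q'.cls (B := (opensToCl T).obj Q.V) ⟨t, hV⟩ (Q.φ n) hV' hZ)
    (fun n m => by rw [map_add, cls_add])

theorem tr_cls (Q' : Chart G Z) {B : Cl T} (b : B.E) (s : Cl.sect G B) (hV : B.p b ∈ Q.V)
    (hV' : B.p b ∈ Q'.V) (hZ : B.p b ∈ Z) :
    Q.tr Q' (B.p b) hV hV' hZ (Q.cls b s hV hZ) = Q'.cls b s hV' hZ :=
  Q'.cls_congr (Q.cls_spec b s hV hZ).symm hV' hZ hV' hZ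

theorem tr_tr (Q' : Chart G Z) (t : T) (hV : t ∈ Q.V) (hV' : t ∈ Q'.V) (hZ : t ∈ Z) (n : Q.N) :
    Q'.tr Q t hV' hV hZ (Q.tr Q' t hV hV' hZ n) = n := by
  have h := Q'.tr_cls Q (B := (opensToCl T).obj Q.V) ⟨t, hV⟩ (Q.φ n) hV' hV hZ
  rw [cls_φ] at h
  exact h

/-- Two charts at a point have isomorphic groups. -/
def trEquiv (Q' : Chart G Z) (t : T) (hV : t ∈ Q.V) (hV' : t ∈ Q'.V) (hZ : t ∈ Z) : Q.N ≃+ Q'.N :=
  { Q.tr Q' t hV hV' hZ with
    invFun := Q'.tr Q t hV' hV hZ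
    left_inv := Q.tr_tr Q' t hV hV' hZ
    right_inv := Q'.tr_tr Q t hV' hV hZ }

end Chart

/-! ### The space of characters -/

variable {Y : Type} {i : Y → T}
  (K : Y → Chart G (Set.range i)) (hK : ∀ y, i y ∈ (K y).V) (M : Type) [AddCommGroup M]

/-- The set of characters of the stalks with values in `M`. -/
structure Tot (K : Y → Chart G (Set.range i)) (hK : ∀ y, i y ∈ (K y).V) (M : Type)
    [AddCommGroup M] where
  /-- the base point -/
  pt : Y
  /-- the character -/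
  chr : (K pt).N →+ M

variable {K hK M}

namespace Tot

/-- The value of a character at a germ. -/
def ev (e : Tot K hK M) {B : Cl T} (b : B.E) (s : Cl.sect G B) (h : i e.pt = B.p b) : M :=
  e.chr ((K e.pt).cls b s (h ▸ hK e.pt) (h ▸ ⟨e.pt, rfl⟩))

theorem ev_congr (e : Tot K hK M) {B B' : Cl T} {b : B.E} {b' : B'.E} {s : Cl.sect G B}
    {s' : Cl.sect G B'} (g : GEq G b b' s s') (h : i e.pt = B.p b) (h' : i e.pt = B'.p b') :
    e.ev b s h = e.ev b' s' h' :=
  congrArg e.chr ((K e.pt).cls_congr g _ _ _ _)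

theorem ev_add (e : Tot K hK M) {B : Cl T} (b : B.E) (s r : Cl.sect G B) (h : i e.pt = B.p b) :
    e.ev b (s + r) h = e.ev b s h + e.ev b r h := by
  unfold ev
  rw [Chart.cls_add, map_add]

/-- The character at `y` with a given restriction to a chart. -/
def sec (Q : Chart G (Set.range i)) (τ : Q.N →+ M) (y : Y) (hy : i y ∈ Q.V) : Tot K hK M :=
  ⟨y, τ.comp ((K y).tr Q (i y) (hK y) hy ⟨y, rfl⟩)⟩

theorem ev_sec (Q : Chart G (Set.range i)) (τ : Q.N →+ M) (y : Y) (hy : i y ∈ Q.V) {B : Cl T}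
    (b : B.E) (s : Cl.sect G B) (h : i y = B.p b) :
    (sec (K := K) (hK := hK) Q τ y hy).ev b s h = τ (Q.cls b s (h ▸ hy) (h ▸ ⟨y, rfl⟩)) := by
  change τ ((K y).tr Q (i y) (hK y) hy ⟨y, rfl⟩ ((K y).cls b s _ _)) = _
  congr 1
  exact Q.cls_congr (b := (⟨i y, hK y⟩ : ((opensToCl T).obj (K y).V).E)) (b' := b) (by
    have h1 := ((K y).cls_spec b s (h ▸ hK y) (h ▸ ⟨y, rfl⟩)).symm
    have h2 : (⟨B.p b, h ▸ hK y⟩ : ((opensToCl T).obj (K y).V).E) = ⟨i y, hK y⟩ :=
      Subtype.ext h.symm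
    rw [h2] at h1
    exact h1) hy ⟨y, rfl⟩ (h ▸ hy) (h ▸ ⟨y, rfl⟩)

theorem ext' {e e' : Tot K hK M} (h : e.pt = e'.pt)
    (hev : ∀ {B : Cl T} (b : B.E) (s : Cl.sect G B) (h1 : i e.pt = B.p b) (h2 : i e'.pt = B.p b),
      e.ev b s h1 = e'.ev b s h2) : e = e' := by
  obtain ⟨y, χ⟩ := e
  obtain ⟨y', χ'⟩ := e'
  change y = y' at h
  subst h
  congr 1
  ext n
  have h1 := hev (B := (opensToCl T).obj (K y).V) ⟨i y, hK y⟩ ((K y).φ n) rfl rfl
  unfold ev at h1
  change χ ((K y).cls (B := (opensToCl T).obj (K y).V) ⟨i y, hK y⟩ ((K y).φ n) (hK y) ⟨y, rfl⟩) =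
    χ' ((K y).cls (B := (opensToCl T).obj (K y).V) ⟨i y, hK y⟩ ((K y).φ n) (hK y) ⟨y, rfl⟩) at h1
  rw [Chart.cls_φ] at h1
  exact h1

/-- The restriction of a character to a chart. -/
def toChart (Q : Chart G (Set.range i)) (e : Tot K hK M) (he : i e.pt ∈ Q.V) : Q.N →+ M :=
  AddMonoidHom.mk' (fun n => e.ev (B := (opensToCl T).obj Q.V) ⟨i e.pt, he⟩ (Q.φ n) rfl)
    (fun n m => by rw [map_add, ev_add])

theorem toChart_sec (Q : Chart G (Set.range i)) (τ : Q.N →+ M) (y : Y) (hy : i y ∈ Q.V) :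
    toChart Q (sec (K := K) (hK := hK) Q τ y hy) hy = τ := by
  ext n
  change (sec (K := K) (hK := hK) Q τ y hy).ev (B := (opensToCl T).obj Q.V) ⟨i y, hy⟩ (Q.φ n) rfl = _
  rw [ev_sec]
  exact congrArg τ (Q.cls_φ (i y) hy ⟨y, rfl⟩ n)

theorem sec_toChart (Q : Chart G (Set.range i)) (e : Tot K hK M) (he : i e.pt ∈ Q.V) :
    sec (K := K) (hK := hK) Q (toChart Q e he) e.pt he = e := by
  refine ext' rfl fun {B} b s h1 h2 => ?_
  have h3 : i e.pt = B.p b := h2
  refine (ev_sec Q (toChart Q e he) e.pt he b s h3).trans ?_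
  refine e.ev_congr (B := (opensToCl T).obj Q.V) (B' := B) ?_ rfl h3
  have h4 := (Q.cls_spec b s (h3 ▸ he) (h3 ▸ ⟨e.pt, rfl⟩)).symm
  have h5 : (⟨B.p b, h3 ▸ he⟩ : ((opensToCl T).obj Q.V).E) = ⟨i e.pt, he⟩ := Subtype.ext h3.symm
  rw [h5] at h4
  exact h4

/-- The fibres of the space of characters are finite. -/
theorem finite_fibre [Finite M] (y : Y) : ((pt : Tot K hK M → Y) ⁻¹' {y}).Finite := by
  have : Finite ((K y).N →+ M) := Finite.of_injective (fun f => (f : (K y).N → M))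
    DFunLike.coe_injective
  have h : Set.range (fun χ : (K y).N →+ M => (⟨y, χ⟩ : Tot K hK M)) = pt ⁻¹' {y} := by
    ext e
    constructor
    · rintro ⟨χ, rfl⟩
      rfl
    · obtain ⟨y', χ⟩ := e
      rintro (rfl : y' = y)
      exact ⟨χ, rfl⟩
  rw [← h]
  exact Set.finite_range _

variable [TopologicalSpace Y]

/-- The points at which the value of the character on a section is given. -/
def locus (V : Opens T) (s : Cl.sect G ((opensToCl T).obj V)) (m : M) : Set (Tot K hK M) :=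
  {e | ∃ h : i e.pt ∈ V, e.ev (B := (opensToCl T).obj V) ⟨i e.pt, h⟩ s rfl = m}

/-- The topology of the space of characters. -/
instance : TopologicalSpace (Tot K hK M) :=
  TopologicalSpace.induced pt inferInstance ⊓
    TopologicalSpace.generateFrom {U | ∃ V s m, U = locus V s m}

theorem continuous_pt : Continuous (pt : Tot K hK M → Y) :=
  continuous_iff_le_induced.2 inf_le_left

theorem isOpen_locus (V : Opens T) (s : Cl.sect G ((opensToCl T).obj V)) (m : M) :
    IsOpen (locus (K := K) (hK := hK) V s m) := by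
  have h : (TopologicalSpace.generateFrom {U : Set (Tot K hK M) | ∃ V s m, U = locus V s m}).IsOpen
    (locus (K := K) (hK := hK) V s m) := TopologicalSpace.GenerateOpen.basic _ ⟨V, s, m, rfl⟩
  exact (inf_le_right : (inferInstance : TopologicalSpace (Tot K hK M)) ≤ _) _ h

theorem continuous_of {X : Type*} [TopologicalSpace X] (f : X → Tot K hK M)
    (h1 : Continuous fun x => (f x).pt)
    (h2 : ∀ V s m, IsOpen (f ⁻¹' locus V s m)) : Continuous f := by
  have k1 : @Continuous X (Tot K hK M) _ (TopologicalSpace.induced pt inferInstance) f :=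
    continuous_induced_rng.2 h1
  have k2 : @Continuous X (Tot K hK M) _
      (TopologicalSpace.generateFrom {U | ∃ V s m, U = locus V s m}) f := by
    refine continuous_generateFrom_iff.2 ?_
    rintro _ ⟨V, s, m, rfl⟩
    exact h2 V s m
  exact continuous_inf_rng.2 ⟨k1, k2⟩

/-- The values of a section are locally constant. -/
theorem isLocallyConstant_ev {A : Cl T} (s : Cl.sect G A) :
    IsLocallyConstant (fun q : {q : Tot K hK M × A.E // i q.1.pt = A.p q.2} =>
      q.1.1.ev q.1.2 s q.2) := by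
  rw [IsLocallyConstant.iff_exists_open]
  rintro ⟨⟨e₀, a₀⟩, h₀⟩
  obtain ⟨V, s', W, hW, haW, hs'⟩ := exists_down a₀ s
  let m := e₀.ev a₀ s h₀
  refine ⟨{q | q.1.1 ∈ locus V s' m ∧ q.1.2 ∈ W}, ?_, ⟨?_, haW⟩, ?_⟩
  · refine IsOpen.inter ((isOpen_locus V s' m).preimage (continuous_fst.comp continuous_subtype_val))
      (hW.preimage (continuous_snd.comp continuous_subtype_val))
  · obtain ⟨h1, h2⟩ := hs' a₀ haW
    have h3 : i e₀.pt ∈ V := by rw [show i e₀.pt = A.p a₀ from h₀]; exact h1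
    refine ⟨h3, ?_⟩
    have h4 : (⟨i e₀.pt, h3⟩ : ((opensToCl T).obj V).E) = ⟨A.p a₀, h1⟩ := Subtype.ext h₀
    exact e₀.ev_congr (by rw [h4]; exact h2.symm) rfl h₀
  · rintro ⟨⟨e, a⟩, h⟩ ⟨⟨h1, h2⟩, haW'⟩
    obtain ⟨h3, h4⟩ := hs' a haW'
    change e.ev a s h = m
    rw [← h2]
    have h5 : (⟨i e.pt, h1⟩ : ((opensToCl T).obj V).E) = ⟨A.p a, h3⟩ := Subtype.ext h
    exact e.ev_congr (by rw [h5]; exact h4) h rfl

theorem continuous_sec (hi : Continuous i) (Q : Chart G (Set.range i)) (τ : Q.N →+ M) :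
    Continuous (fun y : {y : Y // i y ∈ Q.V} => sec (K := K) (hK := hK) Q τ y.1 y.2) := by
  refine continuous_of _ continuous_subtype_val fun V s m => ?_
  rw [isOpen_iff_mem_nhds]
  rintro ⟨y, hy⟩ ⟨h1, h2⟩
  -- near `y` the section `s` comes from the chart
  let n := Q.cls (B := (opensToCl T).obj V) ⟨i y, h1⟩ s hy ⟨y, rfl⟩
  have hτ : τ n = m := by
    rw [← h2]
    exact (ev_sec Q τ y hy (B := (opensToCl T).obj V) ⟨i y, h1⟩ s rfl).symm
  obtain ⟨C, g, g', c, hc, hc', e⟩ := Q.cls_spec (B := (opensToCl T).obj V) ⟨i y, h1⟩ s hy ⟨y, rfl⟩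
  have hop : IsOpen (i ⁻¹' (C.p '' Set.univ)) := (C.lh.isOpenMap _ isOpen_univ).preimage hi
  refine Filter.mem_of_superset ((hop.preimage continuous_subtype_val).mem_nhds
    ⟨c, trivial, ?_⟩) ?_
  · rw [← g.over c, hc]
    rfl
  · rintro ⟨y', hy'⟩ ⟨c', -, hc2⟩
    change C.p c' = i y' at hc2
    have h3 : i y' ∈ V := by
      rw [← hc2, ← g.over c']
      exact (g.toFun c').2
    refine ⟨h3, ?_⟩
    refine (ev_sec Q τ y' hy' (B := (opensToCl T).obj V) ⟨i y', h3⟩ s rfl).trans ?_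
    rw [← hτ]
    congr 1
    refine Q.cls_eq _ _ _ _ ⟨C, g, g', c', ?_, ?_, e⟩
    · apply Subtype.ext
      change (g.toFun c').1 = i y'
      rw [← hc2, ← g.over c']
      rfl
    · apply Subtype.ext
      change (g'.toFun c').1 = i y'
      rw [← hc2, ← g'.over c']
      rfl

theorem isCoveringMap_pt (hi : Continuous i) : IsCoveringMap (pt : Tot K hK M → Y) := by
  intro y
  let Q := K y
  let _ : TopologicalSpace (Q.N →+ M) := ⊥
  have hd : DiscreteTopology (Q.N →+ M) := ⟨rfl⟩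
  have hU : IsOpen (i ⁻¹' (Q.V : Set T)) := Q.V.2.preimage hi
  refine IsEvenlyCovered.to_isEvenlyCovered_preimage (I := Q.N →+ M) ⟨inferInstance,
    i ⁻¹' (Q.V : Set T), hK y, hU, hU.preimage continuous_pt, ?_⟩
  let H : (pt ⁻¹' (i ⁻¹' (Q.V : Set T)) : Set (Tot K hK M)) ≃ₜ
      (i ⁻¹' (Q.V : Set T) : Set Y) × (Q.N →+ M) :=
    { toFun := fun e => (⟨e.1.pt, e.2⟩, toChart Q e.1 e.2)
      invFun := fun q => ⟨sec Q q.2 q.1.1 q.1.2, q.1.2⟩
      left_inv := fun e => Subtype.ext (sec_toChart Q e.1 e.2)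
      right_inv := fun q => Prod.ext rfl (toChart_sec Q q.2 q.1.1 q.1.2)
      continuous_toFun := by
        refine Continuous.prodMk ((continuous_pt.comp continuous_subtype_val).subtype_mk _) ?_
        rw [continuous_discrete_rng]
        intro τ
        have h1 : (fun e : (pt ⁻¹' (i ⁻¹' (Q.V : Set T)) : Set (Tot K hK M)) =>
            toChart Q e.1 e.2) ⁻¹' {τ} = Subtype.val ⁻¹' ⋂ n : Q.N, locus Q.V (Q.φ n) (τ n) := by
          ext e
          simp only [Set.mem_preimage, Set.mem_singleton_iff, Set.mem_iInter]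
          constructor
          · rintro h n
            exact ⟨e.2, DFunLike.congr_fun h n⟩
          · intro h
            ext n
            exact (h n).2
        rw [h1]
        exact (isOpen_iInter_of_finite fun n => isOpen_locus _ _ _).preimage continuous_subtype_val
      continuous_invFun := by
        refine Continuous.subtype_mk ?_ _
        rw [continuous_iff_continuousAt]
        rintro ⟨y, τ⟩
        rw [continuousAt_prod_of_discrete_right]
        exact (continuous_sec hi Q τ).continuousAt }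
  exact ⟨H, fun e => rfl⟩

end Tot

/-- All the stalks along a preconnected subspace are isomorphic. -/
theorem exists_common_group [TopologicalSpace Y] [PreconnectedSpace Y] (hi : Continuous i)
    (K : Y → Chart G (Set.range i)) (hK : ∀ y, i y ∈ (K y).V) :
    ∃ (M : Type) (_ : AddCommGroup M) (_ : Finite M), ∀ y, Nonempty ((K y).N ≃+ M) := by
  rcases isEmpty_or_nonempty Y with hY | ⟨⟨y₀⟩⟩
  · exact ⟨Unit, inferInstance, inferInstance, fun y => (hY.false y).elim⟩
  · refine ⟨(K y₀).N, inferInstance, inferInstance, ?_⟩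
    have hlc : IsLocallyConstant (fun y => Nonempty ((K y).N ≃+ (K y₀).N)) := by
      rw [IsLocallyConstant.iff_exists_open]
      intro y
      refine ⟨i ⁻¹' ((K y).V : Set T), (K y).V.2.preimage hi, hK y, fun y' hy' => ?_⟩
      have e := (K y').trEquiv (K y) (i y') (hK y') hy' ⟨y', rfl⟩
      exact propext ⟨fun ⟨k⟩ => ⟨e.symm.trans k⟩, fun ⟨k⟩ => ⟨e.trans k⟩⟩
    intro y
    have h := hlc.apply_eq_of_preconnectedSpace y y₀
    rw [h]
    exact ⟨AddEquiv.refl _⟩

/-- **The covering of characters.** -/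
theorem exists_cov [TopologicalSpace Y] [PreconnectedSpace Y] (hi : Continuous i)
    (h : ∀ y, LCat G (Set.range i) (i y)) :
    ∃ (M : Type) (_ : AddCommGroup M) (_ : Finite M) (E : Type) (_ : TopologicalSpace E)
      (p : E → Y), IsCoveringMap p ∧ (∀ y, (p ⁻¹' {y}).Finite) ∧
      ∃ lam : ∀ A : Cl T, Cl.sect G A →+ ({q : E × A.E // i (p q.1) = A.p q.2} → M),
        (∀ (A B : Cl T) (g : B ⟶ A) (s : Cl.sect G A) (e : E) (b : B.E) (hb : i (p e) = B.p b)
          (ha : i (p e) = A.p (g.toFun b)), lam B (res G g s) ⟨(e, b), hb⟩ =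
            lam A s ⟨(e, g.toFun b), ha⟩) ∧
        (∀ (A : Cl T) (s : Cl.sect G A), IsLocallyConstant (lam A s)) ∧
        ∀ (A : Cl T) (s : Cl.sect G A) (y : Y) (a : A.E), i y = A.p a →
          (∀ (e : E) (he : i (p e) = A.p a), p e = y → lam A s ⟨(e, a), he⟩ = 0) →
          ∃ (B : Cl T) (g : B ⟶ A) (b : B.E), g.toFun b = a ∧ res G g s = 0 := by
  choose K hK using fun y => exists_chart (h y)
  obtain ⟨M, _, _, hM⟩ := exists_common_group hi K hK
  refine ⟨M, inferInstance, inferInstance, Tot K hK M, inferInstance, Tot.pt,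
    Tot.isCoveringMap_pt hi, Tot.finite_fibre, fun A => AddMonoidHom.mk'
      (fun s q => q.1.1.ev q.1.2 s q.2) (fun s r => funext fun q => q.1.1.ev_add _ _ _ _),
    ?_, ?_, ?_⟩
  · intro A B g s e b hb ha
    exact e.ev_congr (GEq.of_res g b s).symm hb ha
  · intro A s
    exact Tot.isLocallyConstant_ev s
  · intro A s y a hya hs
    obtain ⟨k⟩ := hM y
    have h1 := hs ⟨y, k.toAddMonoidHom⟩ hya rfl
    change k ((K y).cls a s (hya ▸ hK y) (hya ▸ ⟨y, rfl⟩)) = 0 at h1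
    have h2 := (K y).cls_spec a s (hya ▸ hK y) (hya ▸ ⟨y, rfl⟩)
    rw [(map_eq_zero_iff k k.injective).1 h1, map_zero] at h2
    obtain ⟨C, f, f', c, hc, -, e⟩ := h2
    exact ⟨C, f, c, hc, by rw [e, map_zero]⟩

end Groth.Agent.An.H809.CharCov
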