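import Groth.Agent.An.H866.T2Defs
import Groth.Agent.An.H882.FinPush
import Groth.Agent.An.H890.ULiftSite

/-!
# Direct images of constant sheaves along finite maps are locally constant along strata

`f : C(Q, T)` closed, separated, with finite fibres, such that every point of the fibre over `z` has
arbitrarily small neighbourhoods which contain exactly one point over each point of `Z` near `z`.
Then `f_* M` is locally constant along `Z` near `z`.
-/

set_option autoImplicit false

open CategoryTheory TopologicalSpace Topology Opposite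

noncomputable section

namespace Groth.Agent.An.H809.PushLC

open _root_.An Groth.Agent.An.H886.EtSpace Groth.Agent.An.H884.ClBC
open Groth.Agent.An.H882.SuppFin Groth.Agent.An.H882.FinPush
open Groth.Agent.An.H889.OCoh Groth.Agent.An.H866.T2Defs Groth.Agent.An.H885.ClConst
open Groth.Agent.An.H890.ULiftSite

variable {Q T : Type} [TopologicalSpace Q] [TopologicalSpace T] (f : C(Q, T))

/-- The preimage of an open, as an object of the classical site. -/
abbrev pre (V : Opens T) : Cl Q := (clBC f).obj ((opensToCl T).obj V)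

/-- Restriction between the preimages. -/
abbrev preMap {V V' : Opens T} (k : V' ≤ V) : pre f V' ⟶ pre f V :=
  (clBC f).map ((opensToCl T).map (homOfLE k))

/-- Every point of the fibre over `z` has small neighbourhoods with exactly one point over each
point of `Z` near `z`. -/
def OnePt (Z : Set T) (z : T) : Prop :=
  ∀ y : Q, f y = z → ∀ N : Set Q, IsOpen N → y ∈ N → ∃ N' : Set Q, IsOpen N' ∧ N' ⊆ N ∧ y ∈ N' ∧
    ∃ V : Set T, IsOpen V ∧ z ∈ V ∧ ∀ t ∈ V, t ∈ Z → ∃! y', y' ∈ N' ∧ f y' = t

variable {f}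

/-- An open subset containing a fibre contains the preimage of a neighbourhood. -/
theorem exists_preimage_subset (hcl : IsClosedMap f) {N : Set Q} (hN : IsOpen N) {t : T}
    (h : ∀ y, f y = t → y ∈ N) : ∃ V : Opens T, t ∈ V ∧ ∀ y, f y ∈ V → y ∈ N := by
  refine ⟨⟨(f '' Nᶜ)ᶜ, (hcl _ hN.isClosed_compl).isOpen_compl⟩, ?_, ?_⟩
  · rintro ⟨y, hy, hyt⟩
    exact hy (h y hyt)
  · intro y hy
    by_contra hyN
    exact hy ⟨y, hyN, rfl⟩

variable {M : Type} [AddCommGroup M]

/-- The sections over the preimage of `V` which are constant on the given opens. -/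
def sig (V : Opens T) {F : Type} (N : F → Set Q) (hN : ∀ y, IsOpen (N y)) :
    AddSubgroup (Cl.sect (Cl.const Q M) (pre f V)) where
  carrier := {s | ∃ m : F → M, ∀ y, res (Cl.const Q M)
    ((pre f V).restrictOpenι ((pre f V).p ⁻¹' N y) ((hN y).preimage (pre f V).lh.continuous)) s =
      constSec M _ (m y)}
  zero_mem' := ⟨0, fun y => by rw [map_zero, Pi.zero_apply, map_zero]⟩
  add_mem' := by
    rintro a b ⟨m, hm⟩ ⟨m', hm'⟩
    exact ⟨m + m', fun y => by rw [map_add, hm, hm', Pi.add_apply, map_add]⟩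
  neg_mem' := by
    rintro a ⟨m, hm⟩
    exact ⟨-m, fun y => by rw [map_neg, hm, Pi.neg_apply, map_neg]⟩

theorem mem_sig {V : Opens T} {F : Type} {N : F → Set Q} {hN : ∀ y, IsOpen (N y)}
    {s : Cl.sect (Cl.const Q M) (pre f V)} : s ∈ sig V N hN ↔ ∃ m : F → M, ∀ y,
      res (Cl.const Q M)
        ((pre f V).restrictOpenι ((pre f V).p ⁻¹' N y) ((hN y).preimage (pre f V).lh.continuous)) s =
      constSec M _ (m y) := Iff.rfl

/-- Sections agree when they agree on an open cover. -/
theorem ext_cover {G : Cl.Ab Q} {A : Cl Q} {F : Type*} (U : F → Set A.E) (hU : ∀ i, IsOpen (U i))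
    (hc : ∀ a : A.E, ∃ i, a ∈ U i) {s s' : Cl.sect G A}
    (h : ∀ i, res G (A.restrictOpenι (U i) (hU i)) s = res G (A.restrictOpenι (U i) (hU i)) s') :
    s = s' := by
  refine sect_ext G fun a => ?_
  obtain ⟨i, hi⟩ := hc a
  exact ⟨_, A.restrictOpenι (U i) (hU i), ⟨a, hi⟩, rfl, h i⟩

theorem lcat_push [Finite M] (hcl : IsClosedMap f) (hsep : IsSeparatedMap f)
    (hfin : ∀ s, (f ⁻¹' {s}).Finite) {Z : Set T} {z : T} (h : OnePt f Z z) :
    LCat ((pushCl f).obj (Cl.const Q M)) Z z := by
  classical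
  set F : Set Q := f ⁻¹' {z} with hF
  have hFfin : Finite F := hfin z
  obtain ⟨U, hU, hUy, -, hUd⟩ := exists_disjoint_nhds (hfin z)
    (fun x hx y hy hxy => hsep x y ((show f x = z from hx).trans (show f y = z from hy).symm) hxy)
    (fun _ => Set.univ) (fun _ => isOpen_univ) (fun _ => trivial)
  choose N hN hNU hyN V₁ hV₁ hzV₁ hone using fun y : F => h y y.2 (U y) (hU y) (hUy y)
  have hNd : ∀ x y, x ≠ y → Disjoint (N x) (N y) := fun x y hxy =>
    (hUd x y hxy).mono (hNU x) (hNU y)
  -- the neighbourhood of `z`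
  obtain ⟨V₂, hzV₂, hV₂⟩ := exists_preimage_subset hcl (N := ⋃ y, N y) (isOpen_iUnion hN)
    (t := z) (fun y hy => Set.mem_iUnion.2 ⟨⟨y, hy⟩, hyN ⟨y, hy⟩⟩)
  let V : Opens T := ⟨⋂ y, V₁ y, isOpen_iInter_of_finite hV₁⟩ ⊓ V₂
  have hV1 : ∀ t ∈ V, ∀ y, t ∈ V₁ y := fun t ht y => Set.mem_iInter.1 ht.1 y
  have hV2 : ∀ t ∈ V, t ∈ V₂ := fun t ht => ht.2
  have hcov : ∀ a : (pre f V).E, ∃ y : F, a ∈ (pre f V).p ⁻¹' N y := by
    intro a
    have h1 : f a.1.1 = a.1.2.1 := a.2
    have h2 : f a.1.1 ∈ V₂ := by
      rw [h1]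
      exact hV2 _ a.1.2.2
    obtain ⟨y, hy⟩ := Set.mem_iUnion.1 (hV₂ _ h2)
    exact ⟨y, hy⟩
  have hdis : ∀ x y : F, x ≠ y → Disjoint ((pre f V).p ⁻¹' N x) ((pre f V).p ⁻¹' N y) :=
    fun x y hxy => (hNd x y hxy).preimage _
  have hop : ∀ y : F, IsOpen ((pre f V).p ⁻¹' N y) := fun y =>
    (hN y).preimage (pre f V).lh.continuous
  refine ⟨V, ⟨Set.mem_iInter.2 hzV₁, hzV₂⟩, sig V N hN, ?_, ?_⟩
  · -- finiteness
    have hch : ∀ s : sig (f := f) (M := M) V N hN, ∃ m : F → M, ∀ y, res (Cl.const Q M)
        ((pre f V).restrictOpenι ((pre f V).p ⁻¹' N y) (hop y)) s.1 = constSec M _ (m y) :=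
      fun s => s.2
    choose m hm using hch
    refine Finite.of_injective m fun s s' hss => Subtype.ext ?_
    refine ext_cover _ hop hcov fun y => ?_
    rw [hm, hm, hss]
  · intro t htV htZ
    choose y' hy' huniq using fun y : F => hone y t (hV1 t htV y) htZ
    refine ⟨?_, ?_⟩
    · -- injectivity
      rintro s ⟨m, hm⟩ V' k htV' h0
      have h0' : res (Cl.const Q M) (preMap f k) s = 0 := h0
      suffices hs : ∀ y, res (Cl.const Q M)
          ((pre f V).restrictOpenι ((pre f V).p ⁻¹' N y) (hop y)) s =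
          res (Cl.const Q M) ((pre f V).restrictOpenι ((pre f V).p ⁻¹' N y) (hop y)) 0 from
        ext_cover _ hop hcov hs
      intro y
      rw [hm, map_zero]
      -- the point of `N y` over `t`
      let e' : (pre f V').E := ⟨(y' y, ⟨t, htV'⟩), (hy' y).2⟩
      have hop' : IsOpen ((pre f V').p ⁻¹' N y) := (hN y).preimage (pre f V').lh.continuous
      let B : Cl Q := (pre f V').restrictOpen ((pre f V').p ⁻¹' N y) hop'
      let b : B.E := ⟨e', (hy' y).1⟩
      let g : B ⟶ (pre f V).restrictOpen ((pre f V).p ⁻¹' N y) (hop y) :=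
        liftOpen ((pre f V').restrictOpenι ((pre f V').p ⁻¹' N y) hop' ≫ preMap f k) _ (hop y)
          (fun c => c.2)
      have hg : g ≫ (pre f V).restrictOpenι ((pre f V).p ⁻¹' N y) (hop y) =
        (pre f V').restrictOpenι ((pre f V').p ⁻¹' N y) hop' ≫ preMap f k := rfl
      have h1 : res (Cl.const Q M) g (constSec M _ (m y)) = 0 := by
        rw [← hm y, ← res_comp, hg, res_comp, h0', map_zero]
      have h2 : m y = 0 := (isConstVia_constSec M _).inj B g b (m y) h1
      rw [h2, map_zero]
    · -- surjectivity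
      intro V' htV' s
      let s' : Cl.sect (Cl.const Q M) (pre f V') := s
      have hs' : ∀ y : F, ∃ (C : Cl Q) (k : C ⟶ pre f V') (c : C.E) (m : M),
          k.toFun c = ⟨(y' y, ⟨t, htV'⟩), (hy' y).2⟩ ∧
          res (Cl.const Q M) k s' = constSec M C m := by
        intro y
        obtain ⟨C, k, c, m, hc, e⟩ := (isConstVia_constSec M (pre f V')).surj (pre f V') (𝟙 _)
          ⟨(y' y, ⟨t, htV'⟩), (hy' y).2⟩ s'
        refine ⟨C, k, c, m, hc, e.trans ?_⟩
        rw [Category.comp_id]
        exact res_constSec M k m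
      choose C k c m hc hm using hs'
      obtain ⟨σ, hσ⟩ := exists_glue_disjoint (Cl.const Q M) _ hop hcov hdis
        (fun y => constSec M _ (m y))
      -- the agreement locus
      have key : ∃ V'' : Opens T, t ∈ V'' ∧ V'' ≤ V ⊓ V' ∧ ∀ (q : (pre f (V ⊓ V')).E),
          f q.1.1 ∈ V'' → GEq (Cl.const Q M) q q
            (res (Cl.const Q M) (preMap f inf_le_left) σ)
            (res (Cl.const Q M) (preMap f inf_le_right) s') := by
        let O : Set (pre f (V ⊓ V')).E := {q | GEq (Cl.const Q M) q q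
            (res (Cl.const Q M) (preMap f inf_le_left) σ)
            (res (Cl.const Q M) (preMap f inf_le_right) s')}
        have hO : IsOpen O := isOpen_GEq _ _
        have hO' : IsOpen ((pre f (V ⊓ V')).p '' O) :=
          (pre f (V ⊓ V')).lh.isOpenMap _ hO
        obtain ⟨V'', ht'', hV''⟩ := exists_preimage_subset hcl hO' (t := t) (by
          intro q hq
          -- `q` is one of the `y' y`
          have h1 : f q ∈ V₂ := by
            rw [hq]
            exact hV2 _ htV
          obtain ⟨y, hy⟩ := Set.mem_iUnion.1 (hV₂ _ h1)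
          have h2 : q = y' y := huniq y q ⟨hy, hq⟩
          subst h2
          refine ⟨⟨(y' y, ⟨t, htV, htV'⟩), (hy' y).2⟩, ?_, rfl⟩
          -- germs
          change GEq _ _ _ _ _
          have e1 : GEq (Cl.const Q M)
              (⟨(y' y, ⟨t, htV⟩), (hy' y).2⟩ : (pre f V).E)
              (⟨(y' y, ⟨t, htV, htV'⟩), (hy' y).2⟩ : (pre f (V ⊓ V')).E) σ
              (res (Cl.const Q M) (preMap f inf_le_left) σ) :=
            GEq.of_res (preMap f inf_le_left)
              (⟨(y' y, ⟨t, htV, htV'⟩), (hy' y).2⟩ : (pre f (V ⊓ V')).E) σ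
          have e2 : GEq (Cl.const Q M)
              (⟨(y' y, ⟨t, htV'⟩), (hy' y).2⟩ : (pre f V').E)
              (⟨(y' y, ⟨t, htV, htV'⟩), (hy' y).2⟩ : (pre f (V ⊓ V')).E) s'
              (res (Cl.const Q M) (preMap f inf_le_right) s') :=
            GEq.of_res (preMap f inf_le_right)
              (⟨(y' y, ⟨t, htV, htV'⟩), (hy' y).2⟩ : (pre f (V ⊓ V')).E) s'
          let D0 : Cl Q := (pre f V).restrictOpen ((pre f V).p ⁻¹' N y) (hop y)
          let d0 : D0.E := ⟨⟨(y' y, ⟨t, htV⟩), (hy' y).2⟩, (hy' y).1⟩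
          have e3 : GEq (Cl.const Q M)
              (⟨(y' y, ⟨t, htV⟩), (hy' y).2⟩ : (pre f V).E) d0 σ (constSec M D0 (m y)) := by
            have := GEq.of_res (G := Cl.const Q M)
              ((pre f V).restrictOpenι ((pre f V).p ⁻¹' N y) (hop y)) d0 σ
            rw [hσ y] at this
            exact this
          have e4 : GEq (Cl.const Q M)
              (⟨(y' y, ⟨t, htV'⟩), (hy' y).2⟩ : (pre f V').E) (c y) s'
              (constSec M _ (m y)) := by
            have := GEq.of_res (G := Cl.const Q M) (k y) (c y) s'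
            rw [hm y, hc y] at this
            exact this
          have e5 : GEq (Cl.const Q M) d0 (c y)
              (constSec M D0 (m y)) (constSec M (C y) (m y)) := by
            obtain ⟨D, g, g', d, hg, hg', -⟩ := exists_common D0 (C y) d0 (c y) (by
                have := (k y).over (c y)
                rw [hc y] at this
                exact this)
            refine ⟨D, g, g', d, hg, hg', ?_⟩
            exact (res_constSec M g (m y)).trans (res_constSec M g' (m y)).symm
          exact e1.symm.trans (e3.trans (e5.trans (e4.symm.trans e2))))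
        refine ⟨V'' ⊓ (V ⊓ V'), ⟨ht'', htV, htV'⟩, inf_le_right, ?_⟩
        intro q hq
        obtain ⟨q', hq', hqq⟩ := hV'' q.1.1 hq.1
        have : q' = q := by
          have h1 : q'.1.1 = q.1.1 := hqq
          have h2 : f q'.1.1 = q'.1.2.1 := q'.2
          have h3 : f q.1.1 = q.1.2.1 := q.2
          exact Subtype.ext (Prod.ext h1 (Subtype.ext (h2.symm.trans ((congrArg f h1).trans h3))))
        rw [← this]
        exact hq'
      obtain ⟨V'', ht'', hle, hV''⟩ := key
      refine ⟨σ, mem_sig.2 ⟨m, hσ⟩, V'', hle.trans inf_le_left, hle.trans inf_le_right, ht'', ?_⟩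
      change res (Cl.const Q M) (preMap f (hle.trans inf_le_left)) σ =
        res (Cl.const Q M) (preMap f (hle.trans inf_le_right)) s'
      refine eq_of_GEq fun b => ?_
      have hb : f b.1.1 ∈ V'' := by
        have : f b.1.1 = b.1.2.1 := b.2
        rw [this]
        exact b.1.2.2
      have h1 := hV'' ((preMap f hle).toFun b) hb
      have e1 : preMap f hle ≫ preMap f inf_le_left = preMap f (hle.trans inf_le_left) := rfl
      have e2 : preMap f hle ≫ preMap f inf_le_right = preMap f (hle.trans inf_le_right) := rfl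
      rw [← e1, ← e2, res_comp, res_comp]
      exact (GEq.of_res (preMap f hle) b _).symm.trans (h1.trans (GEq.of_res (preMap f hle) b _))

end Groth.Agent.An.H809.PushLC
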